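import Groth.Agent.ASt.Rep
import Groth.Agent.ASt.Diag
import Groth.Prelude.Def_StGerb2
/-!
The automorphism group scheme of a point is the fibre of the diagonal over the pair of that point with itself.
-/

set_option autoImplicit false
set_option backward.isDefEq.respectTransparency false
set_option backward.isDefEq.respectTransparency.types false

universe u

open CategoryTheory CategoryTheory.Limits AlgebraicGeometry Opposite

namespace Groth.Agent.StabLib

open _root_.AlgSp Groth.Agent.ASp Groth.Agent.ASt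

variable {S : Scheme.{u}} {U : Over S} {𝒳 : AlgSt.Cat S} [FibCat.IsFibGrpd 𝒳.p]

/-- A property of the fibre of the diagonal over a pair of equal points holds for their automorphism group scheme. -/
theorem prop_of_autRep {P : MorphismProperty (Sp S)} [P.RespectsIso] (x : FibCat.overCat U ⥤ᵇ 𝒳)
    (G : Over U.left) [GrpObj G] (r : Gerb.AutRep x (Gerb.ptsGrp U G))
    (h : ASt.FibHas P (FibCat.fpLift x x (Iso.refl _)) (FibCat.diag (FibCat.toSelf 𝒳))) :
    P ((yon S).map (Over.homMk G.hom rfl : Over.mk (G.hom ≫ U.hom) ⟶ U)) := by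
  let y := FibCat.fpLift x x (Iso.refl (BasedFunctor.comp x (FibCat.toSelf 𝒳)))
  let Δ := FibCat.diag (FibCat.toSelf 𝒳)
  let GU : Over S := Over.mk (G.hom ≫ U.hom)
  let k : GU ⟶ U := Over.homMk G.hom rfl
  let pt {T : Over S} (g : T ⟶ GU) : (Gerb.ptsGrp U G).obj (op (ov (g ≫ k))) :=
    Over.homMk g.left (by simp [k, GU]; rfl)
  let a₀ : (Gerb.ptsGrp U G).obj (op (ov k)) := Over.homMk (𝟙 G.left) (Category.id_comp _)
  let act {T : Over S} (q : T ⟶ U) (a : (Gerb.ptsGrp U G).obj (op (ov q))) : x.obj (ov q) ⟶ x.obj (ov q) :=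
    (r.iso (ov q) a).hom.1
  have hact {T : Over S} (q : T ⟶ U) (a : (Gerb.ptsGrp U G).obj (op (ov q))) :
      𝒳.p.map (act q a) = 𝟙 _ := by
    haveI := (r.iso (ov q) a).hom.2
    exact (map_of_isHomLift_id (R := 𝒳.p.obj (x.obj (ov q))) (act q a)).trans (eqToHom_refl _ _)
  let φ₀ {T : Over S} (q : T ⟶ U) (a : (Gerb.ptsGrp U G).obj (op (ov q))) : y.obj (ov q) ⟶ Δ.obj (x.obj (ov q)) :=
    fpHomMk (𝟙 (x.obj (ov q))) (act q a) (by
      change 𝒳.p.map (𝟙 _) ≫ 𝟙 _ = 𝟙 _ ≫ 𝒳.p.map (act q a)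
      rw [hact, CategoryTheory.Functor.map_id])
  have hbase {T : Over S} (q : T ⟶ U) : 𝒳.p.obj (x.obj (ov q)) = T := (x.w_obj (ov q)).trans (ov_base q)
  have hφ₀ {T : Over S} (q : T ⟶ U) (a : (Gerb.ptsGrp U G).obj (op (ov q))) :
      (FibCat.fp (FibCat.toSelf 𝒳) (FibCat.toSelf 𝒳)).p.map (φ₀ q a) =
        eqToHom (((y.w_obj (ov q)).trans (ov_base q)).trans ((hbase q).symm.trans (Δ.w_obj (x.obj (ov q))).symm)) := by
    change 𝒳.p.map (𝟙 (x.obj (ov q))) = _
    rw [CategoryTheory.Functor.map_id]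
    exact (eqToHom_refl _ _).symm
  let E₀ : ClType (FibCat.fp y Δ) GU := fpEl k (x.obj (ov k)) (hbase k) (φ₀ k a₀) (hφ₀ k a₀)
  have hE {T : Over S} (g : T ⟶ GU) :
      clMap g E₀ = fpEl (g ≫ k) (x.obj (ov (g ≫ k))) (hbase _) (φ₀ _ (pt g)) (hφ₀ _ _) := by
    refine clMap_fpEl g rfl (x.map (ovHom g rfl)) ?_
    have ha : pt g = (Gerb.ptsGrp U G).map (ovHom g rfl : ov (g ≫ k) ⟶ ov k).op a₀ := by
      apply Over.OverMorphism.ext
      exact (Category.comp_id g.left).symm
    refine fp_hom_ext ((Category.comp_id _).trans (Category.id_comp _).symm) ?_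
    change x.map _ ≫ act k a₀ = act _ (pt g) ≫ x.map _
    rw [ha]
    exact (r.natural (ovHom g rfl : ov (g ≫ k) ⟶ ov k) a₀).symm
  let Φ : (pyon S).obj GU ⟶ ASt.fib y Δ :=
    { app := fun T => ↾(fun c => clMap (ULift.down c) E₀)
      naturality := fun A B m => by
        ext c
        exact ConcreteCategory.congr_hom ((Cl (FibCat.fp y Δ)).map_comp (ULift.down c).op m) E₀ }
  have hbij : ∀ T : Over S, Function.Bijective (fun g : T ⟶ GU => clMap g E₀) := by
    intro T
    refine ⟨fun g g' hgg => ?_, fun c => ?_⟩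
    · simp only [hE] at hgg
      have hk : g ≫ k = g' ≫ k := (fpHom_fpEl _ _ _ _ _).symm.trans ((congrArg fpHom hgg).trans (fpHom_fpEl _ _ _ _ _))
      have key : ∀ (q q' : T ⟶ U) (a : (Gerb.ptsGrp U G).obj (op (ov q))) (a' : (Gerb.ptsGrp U G).obj (op (ov q'))),
          q = q' → fpEl (y := y) (f := Δ) q (x.obj (ov q)) (hbase q) (φ₀ q a) (hφ₀ q a) =
            fpEl q' (x.obj (ov q')) (hbase q') (φ₀ q' a') (hφ₀ q' a') → a.left = a'.left := by
        intro q q' a a' hq
        subst hq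
        intro h'
        obtain ⟨m, -, hm'⟩ := fpEl_eq_iff.1 h'
        have h1 : 𝟙 _ ≫ m = 𝟙 _ := congrArg (fun k => k.hom.fst) hm'
        have h2 : act q a ≫ m = act q a' := congrArg (fun k => k.hom.snd) hm'
        rw [show m = 𝟙 _ from (Category.id_comp m).symm.trans h1, Category.comp_id] at h2
        exact congrArg (fun b => b.left) ((r.iso (ov q)).injective (Aut.ext (Functor.Fiber.hom_ext h2)))
      exact Over.OverMorphism.ext (key _ _ (pt g) (pt g') hk hgg)
    · obtain ⟨q, z, hz, φ, hφ, rfl⟩ := fpEl_exists c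
      let φ₁ : x.obj (ov q) ⟶ z := φ.hom.fst
      let φ₂ : x.obj (ov q) ⟶ z := φ.hom.snd
      have h1 : 𝒳.p.map φ₁ = eqToHom ((hbase q).trans hz.symm) := hφ
      have h2 : 𝒳.p.map φ₂ = eqToHom ((hbase q).trans hz.symm) := by
        change 𝒳.p.map φ.hom.snd = _
        rw [fp_map_snd, show 𝒳.p.map φ.hom.fst = _ from h1]
        simp
      haveI : IsIso φ₁ := isIso_of_vert φ₁ h1
      let α₀ := φ₂ ≫ inv φ₁
      have hα : 𝒳.p.map α₀ = eqToHom rfl := by
        rw [Functor.map_comp, Functor.map_inv, h2]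
        simp [h1]
      have hl : 𝒳.p.IsHomLift (𝟙 (𝒳.p.obj (x.obj (ov q)))) α₀ := isHomLift_id_of_map α₀ rfl hα
      haveI : IsIso α₀ := isIso_of_vert α₀ hα
      haveI := hl
      let α : Gerb.AutO (x.obj (ov q)) :=
        ⟨⟨α₀, hl⟩, ⟨inv α₀, inferInstance⟩, Functor.Fiber.hom_ext (IsIso.hom_inv_id α₀),
          Functor.Fiber.hom_ext (IsIso.inv_hom_id α₀)⟩
      let a := (r.iso (ov q)).symm α
      have hq : a.left ≫ G.hom = q.left := Over.w a
      let g : T ⟶ GU := Over.homMk a.left (by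
        change a.left ≫ G.hom ≫ U.hom = _
        rw [← Category.assoc, hq]
        exact Over.w q)
      have hgk : g ≫ k = q := Over.OverMorphism.ext hq
      refine ⟨g, (hE g).trans ?_⟩
      have key : ∀ (p : T ⟶ U) (b : (Gerb.ptsGrp U G).obj (op (ov p))), p = q → b.left = a.left →
          fpEl (y := y) (f := Δ) p (x.obj (ov p)) (hbase p) (φ₀ p b) (hφ₀ p b) = fpEl q z hz φ hφ := by
        intro p b hp hb
        subst hp
        obtain rfl : b = a := Over.OverMorphism.ext hb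
        refine fpEl_eq_iff.2 ⟨φ₁, h1.trans rfl, fp_hom_ext (Category.id_comp φ₁) ?_⟩
        change act p a ≫ φ₁ = φ₂
        rw [show act p a = α₀ from congrArg (fun β : Gerb.AutO _ => β.hom.1) ((r.iso (ov p)).apply_symm_apply α),
          Category.assoc, IsIso.inv_hom_id, Category.comp_id]
      exact key _ (pt g) hgk rfl
  have : ∀ T, IsIso (Φ.app T) := fun T => (isIso_iff_bijective _).2
    ((hbij T.unop).comp ⟨fun a b h => ULift.ext _ _ h, fun a => ⟨⟨a⟩, rfl⟩⟩)
  haveI : IsIso Φ := NatIso.isIso_of_isIso_app _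
  obtain ⟨hs, -, hP⟩ := h
  obtain ⟨i⟩ := ASt.arrowIso_of_hom (a := (yon S).map k)
    (b := (ObjectProperty.homMk (fibπ y Δ) : (⟨ASt.fib y Δ, hs⟩ : Sp S) ⟶ (yon S).obj U)) (asIso Φ) (by
      ext T c
      refine congrArg ULift.up ?_
      change ULift.down c ≫ k = fpHom (clMap (ULift.down c) E₀)
      rw [fpHom_clMap, fpHom_fpEl])
  exact (P.arrow_mk_iso_iff i).2 hP

end Groth.Agent.StabLib
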