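import Groth.Agent.StabLib.AutPsh
import Groth.Agent.ASp.SliceSpace
import Groth.Agent.ASp.DecentQS
import Groth.Agent.S10127
import Groth.Agent.S10120
/-!
The stabilizer of a field-valued point is a group scheme when the diagonal is quasi-separated.
-/

set_option autoImplicit false
set_option backward.isDefEq.respectTransparency false
set_option backward.isDefEq.respectTransparency.types false

universe u

open CategoryTheory CategoryTheory.Limits AlgebraicGeometry Opposite MonoidalCategory CartesianMonoidalCategory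

namespace Groth.Agent.StabLib

open _root_.AlgSp Groth.Agent.ASp Groth.Agent.ASt

variable {S X : Scheme.{u}} (g : X ⟶ S) {𝒳 : AlgSt.Cat S} [FibCat.IsFibGrpd 𝒳.p]
  (x : FibCat.overCat (Over.mk g) ⥤ᵇ 𝒳)

/-- The automorphism presheaf on schemes over the source of the point. -/
noncomputable abbrev autX : (Over X)ᵒᵖ ⥤ GrpCat.{u} := (Over.iteratedSliceBackward (Over.mk g)).op ⋙ autP x

/-- The structure map, as a morphism over the base. -/
abbrev sl (W : Over X) : (Over.map g).obj W ⟶ Over.mk g := Over.homMk W.hom rfl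

variable (hs : Presheaf.IsSheaf (J S) (fib (diagPt x) (FibCat.diag (FibCat.toSelf 𝒳))))

/-- The fibre of the diagonal, as a sheaf. -/
noncomputable abbrev autSp : Sp S := ⟨fib (diagPt x) (FibCat.diag (FibCat.toSelf 𝒳)), hs⟩

/-- Its map to the scheme. -/
noncomputable abbrev autπ : autSp g x hs ⟶ (yon S).obj (Over.mk g) :=
  ObjectProperty.homMk (fibπ (diagPt x) (FibCat.diag (FibCat.toSelf 𝒳)))

/-- An element of the fibre as a map from a scheme. -/
noncomputable def elHom {T : Over S} (c : ClType (FibCat.fp (diagPt x) (FibCat.diag (FibCat.toSelf 𝒳))) T) :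
    (yon S).obj T ⟶ autSp g x hs :=
  ObjectProperty.homMk (uliftYonedaEquiv.{u + 1}.symm c)

theorem elHom_app {T : Over S} (c : ClType (FibCat.fp (diagPt x) (FibCat.diag (FibCat.toSelf 𝒳))) T)
    {V : Over S} (m : V ⟶ T) : (elHom g x hs c).hom.app (op V) (ULift.up m) = clMap m c := rfl

theorem elHom_comp_π {T : Over S} (c : ClType (FibCat.fp (diagPt x) (FibCat.diag (FibCat.toSelf 𝒳))) T) :
    elHom g x hs c ≫ autπ g x hs = (yon S).map (fpHom c) := by
  ext V m
  refine congrArg ULift.up ?_
  change fpHom (clMap m.down c) = m.down ≫ fpHom c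
  exact fpHom_clMap _ _

theorem map_elHom {T T' : Over S} (m : T' ⟶ T) (c : ClType (FibCat.fp (diagPt x) (FibCat.diag (FibCat.toSelf 𝒳))) T) :
    (yon S).map m ≫ elHom g x hs c = elHom g x hs (clMap m c) := by
  ext V n
  exact ConcreteCategory.congr_hom ((Cl (FibCat.fp (diagPt x) (FibCat.diag (FibCat.toSelf 𝒳)))).map_comp m.op n.down.op) c

theorem base_yon (W : Over X) :
    Slice.base g ((yon X).obj W) = Slice.theta g W ≫ (yon S).map (sl g W) := by
  refine Slice.hom_ext_El fun T y => ?_
  refine ULift.ext _ _ (Over.OverMorphism.ext ?_)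
  rw [Slice.counit_base_unitEl]
  change T.hom = (𝟙 _ ≫ 𝟙 _ ≫ y.down.left) ≫ W.hom
  rw [Category.id_comp, Category.id_comp, Over.w]

/-- An automorphism as a map to the fibre over the scheme. -/
noncomputable def autOver (W : Over X) (α : (autX g x).obj (op W)) :
    (Slice.toOver g).obj ((yon X).obj W) ⟶ Over.mk (autπ g x hs) :=
  Over.homMk (Slice.theta g W ≫ elHom g x hs (el x (sl g W) α)) (by
    change (Slice.theta g W ≫ elHom g x hs (el x (sl g W) α)) ≫ autπ g x hs = Slice.base g ((yon X).obj W)
    rw [Category.assoc, elHom_comp_π, fpHom_el, base_yon])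

theorem autOver_bijective (W : Over X) : Function.Bijective (autOver g x hs W) := by
  haveI : IsIso (Slice.theta g W) := (Slice.thetaIso g W).isIso_hom
  refine ⟨fun α β h => ?_, fun f => ?_⟩
  · have h1 : elHom g x hs (el x (sl g W) α) = elHom g x hs (el x (sl g W) β) :=
      (cancel_epi (Slice.theta g W)).1 (congrArg CommaMorphism.left h)
    exact el_injective x (sl g W) (uliftYonedaEquiv.{u + 1}.symm.injective (congrArg (fun f => f.hom) h1))
  · let b : (yon S).obj ((Over.map g).obj W) ⟶ autSp g x hs := inv (Slice.theta g W) ≫ f.left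
    let c : ClType (FibCat.fp (diagPt x) (FibCat.diag (FibCat.toSelf 𝒳))) ((Over.map g).obj W) :=
      uliftYonedaEquiv.{u + 1} b.hom
    have hb : elHom g x hs c = b := ObjectProperty.hom_ext _ (uliftYonedaEquiv.{u + 1}.symm_apply_apply _)
    have hk : fpHom c = sl g W := by
      refine (yon S).map_injective ?_
      rw [← elHom_comp_π g x hs c, hb, ← cancel_epi (Slice.theta g W), ← base_yon, ← Category.assoc,
        IsIso.hom_inv_id_assoc]
      exact Over.w f
    obtain ⟨α, hα⟩ := exists_el x c hk
    refine ⟨α, Over.OverMorphism.ext ?_⟩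
    change Slice.theta g W ≫ elHom g x hs (el x (sl g W) α) = f.left
    rw [hα, hb, IsIso.hom_inv_id_assoc]

theorem map_autOver {W' W : Over X} (m : W' ⟶ W) (α : (autX g x).obj (op W)) :
    (Slice.toOver g).map ((yon X).map m) ≫ autOver g x hs W α = autOver g x hs W' ((autX g x).map m.op α) := by
  apply Over.OverMorphism.ext
  change (Slice.extS g).map ((yon X).map m) ≫ Slice.theta g W ≫ elHom g x hs (el x (sl g W) α) =
    Slice.theta g W' ≫ elHom g x hs (el x (sl g W') ((autX g x).map m.op α))
  rw [← Category.assoc, Slice.theta_naturality, Category.assoc, map_elHom]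
  refine congrArg (fun c => Slice.theta g W' ≫ elHom g x hs c) ?_
  exact clMap_el x ((Over.map g).map m)
    (show (Over.map g).map m ≫ sl g W = sl g W' from Over.OverMorphism.ext (Over.w m)) α

/-- The group of natural families of elements of a presheaf of groups indexed by a presheaf of sets. -/
def natSub {C : Type (u + 1)} [Category.{u} C] (A : Cᵒᵖ ⥤ GrpCat.{u}) (P : Cᵒᵖ ⥤ Type (u + 1)) :
    Subgroup (∀ W : Cᵒᵖ, P.obj W → A.obj W) where
  carrier := {n | ∀ {W V : Cᵒᵖ} (f : W ⟶ V) (p : P.obj W), n V (P.map f p) = A.map f (n W p)}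
  mul_mem' {a b} ha hb W V f p := by
    change a V (P.map f p) * b V (P.map f p) = A.map f (a W p * b W p)
    rw [ha f p, hb f p, map_mul]
  one_mem' {W V} f p := (map_one (A.map f).hom).symm
  inv_mem' {a} ha W V f p := by
    change (a V (P.map f p))⁻¹ = A.map f (a W p)⁻¹
    rw [ha f p, map_inv]

/-- Natural families, as a presheaf of groups in the indexing presheaf. -/
def natPsh {C : Type (u + 1)} [Category.{u} C] (A : Cᵒᵖ ⥤ GrpCat.{u}) :
    (Cᵒᵖ ⥤ Type (u + 1))ᵒᵖ ⥤ GrpCat.{u + 1} where
  obj P := GrpCat.of (natSub A P.unop)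
  map {P Q} ψ := GrpCat.ofHom
    { toFun := fun n => ⟨fun W q => n.1 W (ψ.unop.app W q), fun {W V} f q => by
        change n.1 V (ψ.unop.app V (Q.unop.map f q)) = A.map f (n.1 W (ψ.unop.app W q))
        rw [NatTrans.naturality_apply]
        exact n.2 f _⟩
      map_one' := rfl
      map_mul' := fun _ _ => rfl }

theorem exists_repr_autX (K : Type u) [Field K] (g : Spec (CommRingCat.of K) ⟶ S)
    (x : FibCat.overCat (Over.mk g) ⥤ᵇ 𝒳)
    (h : FibHas IsQuasiSeparatedMor (diagPt x) (FibCat.diag (FibCat.toSelf 𝒳))) :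
    ∃ Y : Over (Spec (CommRingCat.of K)), Nonempty ((autX g x ⋙ CategoryTheory.forget GrpCat).RepresentableBy Y) := by
  obtain ⟨hs, hA, hQ⟩ := h
  obtain ⟨G0, ⟨e⟩⟩ : ∃ G0 : Sp (Spec (CommRingCat.of K)), Nonempty ((Slice.toOver g).obj G0 ≅ Over.mk (autπ g x hs)) :=
    ⟨_, ⟨(Slice.toOver g).objObjPreimageIso _⟩⟩
  let e' : (Slice.extS g).obj G0 ≅ autSp g x hs := (Over.forget _).mapIso e
  have hG0 : IsAlgSpace G0 := Slice.isAlgSpace_ext_iff.1 (hA.of_iso e'.symm)
  let q (W : Over (Spec (CommRingCat.of K))) (α : (autX g x).obj (op W)) : (yon _).obj W ⟶ G0 :=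
    (Slice.toOver g).preimage (autOver g x hs W α ≫ e.inv)
  have hq (W : Over (Spec (CommRingCat.of K))) : Function.Bijective (q W) := by
    refine ⟨fun α β hab => (autOver_bijective g x hs W).1 ?_, fun f => ?_⟩
    · have := congrArg (Slice.toOver g).map hab
      simpa only [q, Functor.map_preimage, cancel_mono] using this
    · obtain ⟨α, hα⟩ := (autOver_bijective g x hs W).2 ((Slice.toOver g).map f ≫ e.hom)
      refine ⟨α, (Slice.toOver g).map_injective ?_⟩
      simp [q, hα]
  have hqn {W' W : Over (Spec (CommRingCat.of K))} (m : W' ⟶ W) (α : (autX g x).obj (op W)) :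
      (yon _).map m ≫ q W α = q W' ((autX g x).map m.op α) := by
    refine (Slice.toOver g).map_injective ?_
    simp only [q, Functor.map_comp, Functor.map_preimage, ← Category.assoc, map_autOver]
  let ev (W : Over (Spec (CommRingCat.of K))) : (autX g x).obj (op W) ≃ G0.obj.obj (op W) :=
    (Equiv.ofBijective _ (hq W)).trans
      (ObjectProperty.fullyFaithfulι _).homEquiv |>.trans uliftYonedaEquiv.{u + 1}
  have hev {W' W : Over (Spec (CommRingCat.of K))} (m : W' ⟶ W) (α : (autX g x).obj (op W)) :
      ev W' ((autX g x).map m.op α) = G0.obj.map m.op (ev W α) := by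
    change uliftYonedaEquiv.{u + 1} (q W' ((autX g x).map m.op α)).hom = _
    rw [← hqn]
    exact (uliftYonedaEquiv_naturality _ _).symm
  let π0 : G0 ⟶ (yon (Spec (CommRingCat.of K))).obj (Over.mk (𝟙 _)) := isTerminalYonBase.from G0
  let F : (Over ((yon (Spec (CommRingCat.of K))).obj (Over.mk (𝟙 _))))ᵒᵖ ⥤ GrpCat.{u + 1} :=
    (Over.forget _ ⋙ sheafToPresheaf _ _).op ⋙ natPsh (autX g x)
  let rep : (F ⋙ CategoryTheory.forget GrpCat).RepresentableBy (Over.mk π0) :=
    { homEquiv := fun {Q} =>
        { toFun := fun f => ⟨fun W p => (ev W.unop).symm (f.left.hom.app W p), fun {W V} φ p => by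
            change (ev V.unop).symm (f.left.hom.app V (Q.left.obj.map φ p)) = _
            rw [NatTrans.naturality_apply]
            apply (ev V.unop).injective
            rw [Equiv.apply_symm_apply]
            exact ((hev φ.unop _).trans (congrArg (G0.obj.map φ) (Equiv.apply_symm_apply _ _))).symm⟩
          invFun := fun n => Over.homMk (ObjectProperty.homMk
            { app := fun W => ↾fun p => ev W.unop (n.1 W p)
              naturality := fun W V φ => by
                ext p
                exact (congrArg (ev V.unop) (n.2 φ p)).trans (hev φ.unop _) }) (isTerminalYonBase.hom_ext _ _)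
          left_inv := fun f => by
            ext W p
            exact Equiv.apply_symm_apply _ _
          right_inv := fun n => by
            refine Subtype.ext ?_
            funext W p
            exact Equiv.symm_apply_apply _ _ }
      homEquiv_comp := fun f h => rfl }
  letI : GrpObj (Over.mk π0) := GrpObj.ofRepresentableBy _ F rep
  have hπ0 : IsQuasiSeparatedMor π0 := by
    haveI : IsIso (Slice.base g ((yon (Spec (CommRingCat.of K))).obj (Over.mk (𝟙 _)))) := by
      haveI : IsIso (Slice.theta g (Over.mk (𝟙 (Spec (CommRingCat.of K))))) := (Slice.thetaIso g _).isIso_hom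
      haveI : IsIso (sl g (Over.mk (𝟙 (Spec (CommRingCat.of K))))) := by
        haveI : IsIso ((Over.forget S).map (sl g (Over.mk (𝟙 (Spec (CommRingCat.of K)))))) :=
          inferInstanceAs (IsIso (𝟙 _))
        exact isIso_of_reflects_iso _ (Over.forget S)
      rw [base_yon]
      infer_instance
    haveI : (RepWith (S := S) @QuasiCompact).RespectsIso := inferInstance
    have h1 : IsQuasiSeparatedMor ((Slice.extS g).map π0) := by
      refine (MorphismProperty.arrow_mk_iso_iff (IsQuasiSeparatedMor (S := S)) (Arrow.isoMk e'.symm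
        (asIso (Slice.base g ((yon (Spec (CommRingCat.of K))).obj (Over.mk (𝟙 _))))).symm ?_)).1 hQ
      change e'.inv ≫ (Slice.extS g).map π0 = autπ g x hs ≫ inv (Slice.base g _)
      rw [← cancel_mono (Slice.base g _), Category.assoc, Category.assoc, Slice.map_base, IsIso.inv_hom_id,
        Category.comp_id]
      exact Over.w e.inv
    change RepWith @QuasiCompact (pullback.diagonal π0)
    refine (Slice.repWith_map_iff (g := g) _).1 ?_
    refine (MorphismProperty.arrow_mk_iso_iff (RepWith (S := S) @QuasiCompact) (Arrow.isoMk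
      (f := Arrow.mk (pullback.diagonal ((Slice.extS g).map π0)))
      (g := Arrow.mk ((Slice.extS g).map (pullback.diagonal π0))) (Iso.refl _)
      (PreservesPullback.iso (Slice.extS g) π0 π0).symm ?_)).1 h1
    change 𝟙 _ ≫ (Slice.extS g).map (pullback.diagonal π0) =
      pullback.diagonal ((Slice.extS g).map π0) ≫ (PreservesPullback.iso (Slice.extS g) π0 π0).inv
    rw [Category.id_comp, Iso.eq_comp_inv]
    apply pullback.hom_ext <;> simp [← Functor.map_comp]
  have hdec : IsDecent (Over.mk π0).left := isDecent_of_qs hG0 π0 hπ0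
  obtain ⟨Y, ⟨r⟩⟩ := (Groth.Agent.S10120.result K (Over.mk π0) hG0
    (Groth.Agent.S10127.result K (Over.mk π0) hG0 hdec)).has_representation
  refine ⟨Y, ⟨{ homEquiv := fun {W} => r.homEquiv.trans (ev W).symm, homEquiv_comp := fun {W W'} f h => ?_ }⟩⟩
  apply (ev W).injective
  change ev W ((ev W).symm (r.homEquiv (f ≫ h))) = ev W ((autX g x).map f.op ((ev W').symm (r.homEquiv h)))
  rw [hev, Equiv.apply_symm_apply, Equiv.apply_symm_apply, r.homEquiv_comp]
  rfl

/-- A scheme representing the automorphism presheaf is the automorphism group scheme. -/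
theorem exists_autRep_of_repr {Y : Over X} (r : (autX g x ⋙ CategoryTheory.forget GrpCat).RepresentableBy Y) :
    ∃ _ : GrpObj Y, Nonempty (Gerb.AutRep x (Gerb.ptsGrp (Over.mk g) Y)) := by
  letI : GrpObj Y := GrpObj.ofRepresentableBy Y _ r
  let u : (Over.iteratedSliceForward (Over.mk g)).op ⋙ autX g x ≅ autP x :=
    (Functor.associator _ _ _).symm ≪≫
      Functor.isoWhiskerRight ((NatIso.op (Over.iteratedSliceEquiv (Over.mk g)).unitIso)) (autP x) ≪≫
        Functor.leftUnitor _
  let Φ : Gerb.ptsGrp (Over.mk g) Y ≅ autP x :=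
    Functor.isoWhiskerLeft (Over.iteratedSliceForward (Over.mk g)).op (yonedaGrpObjIsoOfRepresentableBy Y _ r) ≪≫ u
  refine ⟨inferInstance, ⟨{ iso := fun T => (Φ.app (op T)).groupIsoToMulEquiv, natural := fun {T' T} h a => ?_ }⟩⟩
  have hn := NatTrans.naturality_apply Φ.hom h.op a
  change (Φ.hom.app (op T') ((Gerb.ptsGrp (Over.mk g) Y).map h.op a)).hom.1 ≫ x.map h =
    x.map h ≫ (Φ.hom.app (op T) a).hom.1
  rw [hn]
  exact resAut_comp_map x h _

end Groth.Agent.StabLib
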