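import Groth.Agent.StabLib.AutDiag
import Groth.Agent.DecSec.GerbeEquiv
/-!
The presheaf of automorphisms of a point, and its elements as classes of the fibre of the diagonal.
-/

set_option autoImplicit false
set_option backward.isDefEq.respectTransparency false
set_option backward.isDefEq.respectTransparency.types false

universe u

open CategoryTheory CategoryTheory.Limits AlgebraicGeometry Opposite

namespace Groth.Agent.StabLib

open _root_.AlgSp Groth.Agent.ASp Groth.Agent.ASt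

open Groth.Agent.DecSec.GerbeEq (autOfVert autO_ext map_autO)

variable {S : Scheme.{u}} {U : Over S} {𝒳 : AlgSt.Cat S} [FibCat.IsFibGrpd 𝒳.p]
  (x : FibCat.overCat U ⥤ᵇ 𝒳)

theorem res_cond {T' T : Over U} (h : T' ⟶ T) (α : Gerb.AutO (x.obj T)) :
    𝟙 (𝒳.p.obj (x.obj T')) ≫ 𝒳.p.map (x.map h) = 𝒳.p.map (x.map h ≫ α.hom.1) := by
  rw [Functor.map_comp, map_autO, Category.comp_id, Category.id_comp]

/-- Restriction of an automorphism along a morphism over the base. -/
noncomputable def resAut {T' T : Over U} (h : T' ⟶ T) (α : Gerb.AutO (x.obj T)) : Gerb.AutO (x.obj T') :=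
  autOfVert (facMap (x.map h) (x.map h ≫ α.hom.1) (𝟙 _) (res_cond x h α)) (map_facMap _ _ _ (res_cond x h α))

theorem resAut_comp_map {T' T : Over U} (h : T' ⟶ T) (α : Gerb.AutO (x.obj T)) :
    (resAut x h α).hom.1 ≫ x.map h = x.map h ≫ α.hom.1 :=
  facMap_comp _ _ _ (res_cond x h α)

theorem eq_resAut {T' T : Over U} (h : T' ⟶ T) (α : Gerb.AutO (x.obj T)) (β : Gerb.AutO (x.obj T'))
    (e : β.hom.1 ≫ x.map h = x.map h ≫ α.hom.1) : resAut x h α = β :=
  autO_ext (ASt.hom_ext (x.map h) ((map_autO _).trans (map_autO _).symm) ((resAut_comp_map x h α).trans e.symm))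

/-- Restriction of automorphisms, as a homomorphism. -/
noncomputable def resAutHom {T' T : Over U} (h : T' ⟶ T) : Gerb.AutO (x.obj T) →* Gerb.AutO (x.obj T') where
  toFun := resAut x h
  map_one' := eq_resAut x h 1 1 (by
    change 𝟙 (x.obj T') ≫ x.map h = x.map h ≫ 𝟙 (x.obj T)
    rw [Category.id_comp, Category.comp_id])
  map_mul' α β := eq_resAut x h (α * β) _ (by
    change ((resAut x h β).hom.1 ≫ (resAut x h α).hom.1) ≫ x.map h = x.map h ≫ β.hom.1 ≫ α.hom.1
    rw [Category.assoc, resAut_comp_map, ← Category.assoc, resAut_comp_map, Category.assoc])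

/-- The presheaf of automorphisms of a point. -/
noncomputable def autP : (Over U)ᵒᵖ ⥤ GrpCat.{u} where
  obj T := GrpCat.of (Gerb.AutO (x.obj T.unop))
  map h := GrpCat.ofHom (resAutHom x h.unop)
  map_id T := by
    refine GrpCat.hom_ext (MonoidHom.ext fun α => eq_resAut x _ α α ?_)
    change α.hom.1 ≫ x.map (𝟙 T.unop) = x.map (𝟙 T.unop) ≫ α.hom.1
    rw [CategoryTheory.Functor.map_id, Category.id_comp, Category.comp_id]
  map_comp {A B C} f g := by
    refine GrpCat.hom_ext (MonoidHom.ext fun α => eq_resAut x _ α _ ?_)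
    change (resAut x g.unop (resAut x f.unop α)).hom.1 ≫ x.map (g.unop ≫ f.unop) = x.map (g.unop ≫ f.unop) ≫ α.hom.1
    rw [Functor.map_comp, ← Category.assoc, resAut_comp_map, Category.assoc, resAut_comp_map, Category.assoc]

/-- The point given by a point and itself, with values in the target of the diagonal. -/
noncomputable abbrev diagPt : FibCat.overCat U ⥤ᵇ FibCat.fp (FibCat.toSelf 𝒳) (FibCat.toSelf 𝒳) :=
  FibCat.fpLift x x (Iso.refl (BasedFunctor.comp x (FibCat.toSelf 𝒳)))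

theorem base_obj {T : Over S} (k : T ⟶ U) : 𝒳.p.obj (x.obj (ov k)) = T := (x.w_obj (ov k)).trans (ov_base k)

/-- The pair of the identity and an automorphism. -/
noncomputable def pairHom {T : Over S} (k : T ⟶ U) (α : Gerb.AutO (x.obj (ov k))) :
    (diagPt x).obj (ov k) ⟶ (FibCat.diag (FibCat.toSelf 𝒳)).obj (x.obj (ov k)) :=
  fpHomMk (𝟙 (x.obj (ov k))) α.hom.1 (by
    change 𝒳.p.map (𝟙 _) ≫ 𝟙 _ = 𝟙 _ ≫ 𝒳.p.map α.hom.1
    rw [map_autO, CategoryTheory.Functor.map_id])

theorem map_pairHom {T : Over S} (k : T ⟶ U) (α : Gerb.AutO (x.obj (ov k))) :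
    (FibCat.fp (FibCat.toSelf 𝒳) (FibCat.toSelf 𝒳)).p.map (pairHom x k α) =
      eqToHom ((((diagPt x).w_obj (ov k)).trans (ov_base k)).trans
        ((base_obj x k).symm.trans ((FibCat.diag (FibCat.toSelf 𝒳)).w_obj (x.obj (ov k))).symm)) := by
  change 𝒳.p.map (𝟙 (x.obj (ov k))) = _
  rw [CategoryTheory.Functor.map_id]
  exact (eqToHom_refl _ _).symm

/-- The class in the fibre of the diagonal of an automorphism. -/
noncomputable def el {T : Over S} (k : T ⟶ U) (α : Gerb.AutO (x.obj (ov k))) :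
    ClType (FibCat.fp (diagPt x) (FibCat.diag (FibCat.toSelf 𝒳))) T :=
  fpEl k (x.obj (ov k)) (base_obj x k) (pairHom x k α) (map_pairHom x k α)

theorem fpHom_el {T : Over S} (k : T ⟶ U) (α : Gerb.AutO (x.obj (ov k))) : fpHom (el x k α) = k :=
  fpHom_fpEl _ _ _ _ _

theorem el_injective {T : Over S} (k : T ⟶ U) : Function.Injective (el x k) := by
  intro α β h
  obtain ⟨m, -, hm'⟩ := fpEl_eq_iff.1 h
  have h1 : 𝟙 _ ≫ m = 𝟙 _ := congrArg (fun k => k.hom.fst) hm'
  have h2 : α.hom.1 ≫ m = β.hom.1 := congrArg (fun k => k.hom.snd) hm'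
  rw [show m = 𝟙 _ from (Category.id_comp m).symm.trans h1, Category.comp_id] at h2
  exact autO_ext h2

theorem exists_el {T : Over S} (c : ClType (FibCat.fp (diagPt x) (FibCat.diag (FibCat.toSelf 𝒳))) T)
    {k : T ⟶ U} (hk : fpHom c = k) : ∃ α, el x k α = c := by
  obtain ⟨q, z, hz, φ, hφ, rfl⟩ := fpEl_exists c
  obtain rfl : q = k := (fpHom_fpEl _ _ _ _ _).symm.trans hk
  let φ₁ : x.obj (ov q) ⟶ z := φ.hom.fst
  let φ₂ : x.obj (ov q) ⟶ z := φ.hom.snd
  have h1 : 𝒳.p.map φ₁ = eqToHom ((base_obj x q).trans hz.symm) := hφ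
  have h2 : 𝒳.p.map φ₂ = eqToHom ((base_obj x q).trans hz.symm) := by
    change 𝒳.p.map φ.hom.snd = _
    rw [fp_map_snd, show 𝒳.p.map φ.hom.fst = _ from h1]
    simp
  haveI : IsIso φ₁ := isIso_of_vert φ₁ h1
  have hα : 𝒳.p.map (φ₂ ≫ inv φ₁) = 𝟙 _ := by
    rw [Functor.map_comp, Functor.map_inv, h2]
    simp [h1]
  refine ⟨autOfVert (φ₂ ≫ inv φ₁) hα, fpEl_eq_iff.2 ⟨φ₁, h1.trans rfl, fp_hom_ext (Category.id_comp φ₁) ?_⟩⟩
  change (φ₂ ≫ inv φ₁) ≫ φ₁ = φ₂
  rw [Category.assoc, IsIso.inv_hom_id, Category.comp_id]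

theorem clMap_el {T' T : Over S} (m : T' ⟶ T) {k : T ⟶ U} {k' : T' ⟶ U} (e : m ≫ k = k')
    (α : Gerb.AutO (x.obj (ov k))) :
    clMap m (el x k α) = el x k' (resAut x (ovHom m e) α) := by
  refine clMap_fpEl m e (x.map (ovHom m e)) ?_
  refine fp_hom_ext ((Category.comp_id _).trans (Category.id_comp _).symm) ?_
  exact (resAut_comp_map x (ovHom m e) α).symm

end Groth.Agent.StabLib
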